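import Cfsg.Agent.H922.Ore.HSFinal
import Cfsg.Agent.KFacts.HS.Base
import Cfsg.Agent.HN.Classes
import Cfsg.Agent.H51.Mult

/-!
# `2.HS`: every element is a commutator (helper767; S2491, S2492)

`K ≤ H0` is the universal cover of `HS` (`φK : K →* Q`, kernel `{1, τ}`).  The class list of `HS` (helper922: 21 classes under `HS:2`)
lifts: every element of `K` is conjugate in `H0` to `X_i` or `X_i τ`, and both are commutators of explicit words of `K`.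
-/

set_option autoImplicit false
set_option maxRecDepth 100000

namespace Cfsg.Agent.H767.QO.HS

open Cfsg.Agent.SporadicA.PermTab Cfsg.Agent.HN.Pres
open Cfsg.Agent.HN.HS100 (φ Q K adjA)
open Cfsg.Agent.HN.P1408 (hw iw okw eqw hw_append hw_iw)
open Cfsg.Agent.HN.H0Basic (τ par mem_K_of_par hw_eq hw_τ)
open Cfsg.Agent.HN.DoubleCover (φK φK_surj φK_coe)
open Cfsg.Agent.H922.Ore.Gr Cfsg.Agent.H922.Ore.HS
open Cfsg.Agent.H777.Ore (IsC AllC)
open Equiv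

/-! ### the class list -/

/-- **The class list** (the first half of `Gr.ok_all`). -/
theorem classes {n A : ℕ} [NeZero n] {Q R : Subgroup (Perm (Fin n))} (hQR : Q ≤ R) (hRA : R ≤ autG n A)
    (hnorm : ∀ r ∈ R, ∀ q ∈ Q, r * q * r⁻¹ ∈ Q) {ι : Type} [Fintype ι] (D : ι → Cls)
    (hD : ∀ i, (D i).chk n A = true) (hmem : ∀ i, ∀ P ∈ (D i).A ++ (D i).B ++ (D i).S ++ (D i).T ++ (D i).R, InG Q P)
    (hI : Function.Injective fun i => (D i).I) (hs : Nat.card Q ≤ ∑ i, Nat.card R / bnd (D i).L)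
    (g : Perm (Fin n)) (hg : g ∈ Q) :
    ∃ i, ∃ c ∈ R, ∀ x : Perm (Fin n), Acts x [(D i).X] → c * x * c⁻¹ = g := by
  classical
  have h0 : ∀ i, ∃ x ∈ Q, Acts x [(D i).X] := by
    intro i
    have h := hD i
    simp only [Cls.chk, Bool.and_eq_true] at h
    obtain ⟨x, hx, h1, -⟩ := Wit.ok (D i).toWit h.1 (hmem i)
    exact ⟨x, hx, h1⟩
  choose x hxQ hxA using h0
  have : (Q.subgroupOf R).Normal := by
    refine ⟨fun q hq r => ?_⟩
    rw [Subgroup.mem_subgroupOf] at hq ⊢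
    exact hnorm r r.2 q hq
  have hcard : Nat.card (Q.subgroupOf R) = Nat.card Q := Nat.card_congr (Subgroup.subgroupOfEquivOfLe hQR).toEquiv
  obtain ⟨i, hi⟩ := complete (Q.subgroupOf R) (fun i => (⟨x i, hQR (hxQ i)⟩ : R)) (fun i => bnd (D i).L)
    (fun i => hxQ i) (by
      intro i
      have h := hD i
      simp only [Cls.chk, Bool.and_eq_true] at h
      -- the centralizer as a subgroup of `Perm`
      have e : Nat.card ↥(Subgroup.centralizer ({(⟨x i, hQR (hxQ i)⟩ : R)} : Set R)) =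
          Nat.card ↥((Subgroup.centralizer ({(⟨x i, hQR (hxQ i)⟩ : R)} : Set R)).map R.subtype) :=
        Nat.card_congr (Subgroup.equivMapOfInjective _ _ R.subtype_injective).toEquiv
      rw [e]
      refine card_le_of_chC (hxA i) (D i).m (D i).k (D i).L _ [] ?_ ?_ ?_ h.2.1
      · rintro _ ⟨c, -, rfl⟩
        exact hRA c.2
      · rintro _ ⟨c, hc, rfl⟩ j
        have hc' := Subgroup.mem_centralizer_singleton_iff.1 hc
        have h1 := congrArg (fun z : R => (z : Perm (Fin n)) j) hc'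
        exact h1
      · intro c _ f hf
        exact absurd hf List.not_mem_nil) (by
      intro i j hij
      obtain ⟨c, hc⟩ := isConj_iff.1 hij
      have h1 : (c : Perm (Fin n)) * x i * (c : Perm (Fin n))⁻¹ = x j := congrArg Subtype.val hc
      have h2 : (c : Perm (Fin n)) * x i = x j * c := by rw [← h1]; group
      have h3 := inv4v_conj (hRA c.2) h2
      have key : ∀ i, inv4v A (x i) = (D i).I := by
        intro i
        have h := hD i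
        simp only [Cls.chk, Bool.and_eq_true] at h
        obtain ⟨-, -, h4⟩ := h
        split at h4
        · next v2 v1 w2 w1 he =>
          rw [he]
          exact inv4v_of (hxA i) h4
        · exact absurd h4 (by simp)
      rw [key, key] at h3
      exact hI h3) (by rw [hcard]; exact hs) ⟨g, hQR hg⟩ hg
  obtain ⟨c, hc⟩ := isConj_iff.1 hi
  have h1 : (c : Perm (Fin n)) * x i * (c : Perm (Fin n))⁻¹ = g := congrArg Subtype.val hc
  refine ⟨i, c, c.2, fun y hy => ?_⟩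
  have h2 : y = x i := by
    apply Equiv.ext
    intro j
    apply Fin.ext
    rw [hy j, hxA i j]
  rw [h2, h1]

theorem classes_hs (g : Perm (Fin 100)) (hg : g ∈ Q) :
    ∃ i, ∃ c ∈ φ.range, ∀ x : Perm (Fin 100), Acts x [(D i).X] → c * x * c⁻¹ = g := by
  refine classes (A := adjA) Q_le_range Cfsg.Agent.HN.HS100.range_le norm_Q D chk_all mem_all ?_ ?_ g hg
  · intro i j
    revert i j
    decide +kernel
  · rw [card_range, card_Q_eq]
    decide +kernel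

/-! ### words -/

/-- words `a`, `b` with `φ [a, b] = x_i` -/
def wa : Fin 21 → List ℕ × List ℕ := ![
  ([2], [2]),
  ([3, 4, 2, 4], [0, 2, 4, 3, 4, 0]),
  ([0, 4, 3, 4, 0], [3]),
  ([2], [0]),
  ([2, 4, 3, 3, 4, 0, 4, 2, 4], [0, 2, 4, 3, 4]),
  ([2, 4, 2, 4, 2], [0]),
  ([4, 3, 4], [3]),
  ([2, 0, 2], [4, 2, 4, 2, 4, 2, 4]),
  ([4, 3, 4, 3, 0, 2, 2], [0, 3]),
  ([3, 4, 2, 4, 2], [4, 3, 4]),
  ([0, 4, 3, 4], [3, 3, 4, 2, 4]),
  ([4, 2, 2, 4], [0]),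
  ([4, 3, 3, 4], [2]),
  ([0], [4, 3, 4, 3, 3]),
  ([4, 3, 4, 3], [3, 3, 4, 3, 4]),
  ([3, 0, 3, 3], [0]),
  ([4, 3, 4, 0], [2, 4, 3, 3, 4]),
  ([4, 2, 2, 4], [0, 2]),
  ([4, 2, 4], [2, 0]),
  ([4, 2, 4, 0], [2, 2, 4, 3, 4]),
  ([4, 2, 4], [2, 2, 4, 3, 4, 0])]

/-- words `a'`, `b'`, `c` with `c [a', b'] c⁻¹ = [a, b] τ` -/
def wb : Fin 21 → List ℕ × List ℕ × List ℕ := ![
  ([3, 0, 3], [0, 4, 0, 2, 0, 2, 4], []),
  ([3, 4, 2, 4], [0, 2, 4, 3, 4, 0], [0, 4, 2, 2, 4]),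
  ([0, 3, 3, 0], [0, 4, 0, 3, 4], [0, 2, 4, 3, 3, 4, 2]),
  ([3, 0, 4, 0, 4], [0, 0, 4, 3, 0, 3, 4], [2, 4, 3, 3, 4, 3, 4, 1, 3, 3, 1, 2]),
  ([2, 4, 3, 3, 4, 0, 4, 2, 4], [0, 2, 4, 3, 4], [3, 4, 2]),
  ([2, 4, 2, 4, 2], [0], [0, 2, 0, 3, 4, 3, 1, 2, 1, 2, 4, 3, 3]),
  ([4, 3, 4], [3], [0, 4]),
  ([2, 0, 2, 0, 4, 3, 4], [4, 2, 2, 0, 4], [2, 1, 2, 4, 1, 3, 1, 3]),
  ([0, 2, 2, 2, 0, 2], [3, 0, 4, 2, 2, 0, 4], [2, 2, 4, 2, 0, 4, 2, 4, 2, 4, 1, 2]),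
  ([3, 4, 2, 4], [2, 2, 4, 2, 2, 4], [2, 4, 3, 3, 4, 1, 3, 1, 3, 1, 3]),
  ([0, 4, 3, 4], [3, 3, 4, 2, 4], [3, 3, 4, 1, 2, 2]),
  ([2, 2], [3, 0, 4, 2, 2, 4], [4, 2, 4, 2, 2, 4, 2, 4, 3, 3, 4, 3, 4, 3]),
  ([2, 0, 2], [4, 3, 3, 4], [3, 4, 2, 2, 2, 4, 2, 2, 4, 2, 2, 1, 2]),
  ([0], [4, 3, 4, 3, 3], [0, 3, 4, 3, 3, 1, 2, 2, 4, 2]),
  ([4, 3, 4, 3], [3, 3, 4, 3, 4], [3, 1, 3, 4, 1, 2, 1, 2]),
  ([4, 3, 0, 3, 4], [3, 3, 3, 3, 0], [2, 0, 2, 0, 4, 2, 2, 1, 2, 1, 2, 4, 1, 3]),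
  ([4, 3, 4, 0], [2, 4, 3, 3, 4], [0, 3, 4, 2, 1]),
  ([2, 4, 2, 0, 3, 4], [0, 4, 2, 0, 0, 4], [0, 3, 4, 3, 4, 2, 4, 2, 2, 4, 1, 3]),
  ([4, 2, 4], [2, 0], [0, 3, 0, 2, 0, 2, 0, 4, 3, 1, 3, 1, 2, 1]),
  ([2, 2, 0, 4, 2, 0, 4], [0, 2], [0, 4, 2, 4, 3, 4, 2]),
  ([4, 0, 3, 4], [2, 4, 2, 4, 3], [2, 4, 2, 4, 2, 4, 3])]

/-- the commutator word -/
def cw (a b : List ℕ) : List ℕ := a ++ (b ++ (iw a ++ iw b))

theorem hw_cw (a b : List ℕ) : hw (cw a b) = hw a * hw b * (hw a)⁻¹ * (hw b)⁻¹ := by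
  unfold cw
  rw [hw_append, hw_append, hw_append, hw_iw, hw_iw]
  group

/-- the check of an element of `K` -/
def inK (w : List ℕ) : Bool := okw w && !(par w)

theorem mem_of_inK {w : List ℕ} (h : inK w = true) : hw w ∈ K := by
  unfold inK at h
  rw [Bool.and_eq_true, Bool.not_eq_true'] at h
  exact mem_K_of_par h.1 h.2

/-- the check of the table -/
noncomputable def chkX (i : Fin 21) : Bool :=
  allB (fun p => Nat.beq (Cfsg.Agent.HN.Classes.t1 (cw (wa i).1 (wa i).2) p) (lk (D i).X p)) 100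

theorem chkX_all : ∀ i, chkX i = true := by
  intro i
  fin_cases i <;> decide +kernel

theorem chkK_all : ∀ i, (inK (wa i).1 && inK (wa i).2 && inK (wb i).1 && inK (wb i).2.1) = true := by
  intro i
  fin_cases i <;> decide +kernel

theorem chkW_all : ∀ i, eqw ((wb i).2.2 ++ (cw (wb i).1 (wb i).2.1 ++ iw (wb i).2.2)) (cw (wa i).1 (wa i).2 ++ [0, 0]) = true := by
  intro i
  fin_cases i <;> decide +kernel

theorem acts (i : Fin 21) : Acts (φ (hw (cw (wa i).1 (wa i).2))) [(D i).X] := by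
  intro p
  rw [Cfsg.Agent.HN.Classes.φ_hw_apply]
  exact Nat.eq_of_beq_eq_true ((allB_iff _ _).1 (chkX_all i) p p.2)

/-- a commutator of elements of `K` -/
def CK (g : H0) : Prop := ∃ a ∈ K, ∃ b ∈ K, g = a * b * a⁻¹ * b⁻¹

theorem CK.conj {g : H0} (h : CK g) (c : H0) : CK (c * g * c⁻¹) := by
  obtain ⟨a, ha, b, hb, rfl⟩ := h
  exact ⟨c * a * c⁻¹, Subgroup.Normal.conj_mem inferInstance _ ha c, c * b * c⁻¹,
    Subgroup.Normal.conj_mem inferInstance _ hb c, by group⟩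

theorem ck_one (i : Fin 21) : CK (hw (cw (wa i).1 (wa i).2)) := by
  have h := chkK_all i
  simp only [Bool.and_eq_true] at h
  exact ⟨_, mem_of_inK h.1.1.1, _, mem_of_inK h.1.1.2, hw_cw _ _⟩

theorem ck_τ (i : Fin 21) : CK (hw (cw (wa i).1 (wa i).2) * τ) := by
  have h := chkK_all i
  simp only [Bool.and_eq_true] at h
  have h1 : CK (hw (cw (wb i).1 (wb i).2.1)) := ⟨_, mem_of_inK h.1.2, _, mem_of_inK h.2, hw_cw _ _⟩
  have h2 := h1.conj (hw (wb i).2.2)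
  have h3 := hw_eq (chkW_all i)
  rw [hw_append, hw_append, hw_iw, hw_append, hw_τ, ← mul_assoc] at h3
  rwa [h3] at h2

/-- **Every element of `2.HS` is a commutator.** -/
theorem allC_K : AllC K := by
  intro g
  have hg : φ g ∈ Q := ⟨g, g.2, rfl⟩
  obtain ⟨i, c, ⟨c, rfl⟩, hc⟩ := classes_hs (φ g) hg
  have h1 := hc _ (acts i)
  set X := hw (cw (wa i).1 (wa i).2) with hX
  have h2 : φ (c * X * c⁻¹) = φ g := by rw [map_mul, map_mul, map_inv, h1]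
  have h3 : φ ((g : H0) * (c * X * c⁻¹)⁻¹) = 1 := by rw [map_mul, map_inv, h2, mul_inv_cancel]
  have key : CK (g : H0) := by
    rcases (Cfsg.Agent.HN.H0Basic.φ_eq_one_iff).1 h3 with h4 | h4
    · have h5 : (g : H0) = c * X * c⁻¹ := mul_inv_eq_one.1 h4
      rw [h5]
      exact (ck_one i).conj c
    · have h5 : (g : H0) = τ * (c * X * c⁻¹) := mul_inv_eq_iff_eq_mul.1 h4
      have h6 : (g : H0) = c * (X * τ) * c⁻¹ := by
        rw [h5]
        have h7 : τ * (c * X * c⁻¹) = (c * X * c⁻¹) * τ := (Cfsg.Agent.HN.H0Basic.τ_comm _).symm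
        have h8 : c⁻¹ * τ = τ * c⁻¹ := Cfsg.Agent.HN.H0Basic.τ_comm _
        rw [h7, mul_assoc (c * X), h8]
        group
      rw [h6]
      exact (ck_τ i).conj c
  obtain ⟨a, ha, b, hb, h4⟩ := key
  exact ⟨⟨a, ha⟩, ⟨b, hb⟩, Subtype.ext h4⟩

theorem perfect_K : commutator K = ⊤ := by
  rw [eq_top_iff]
  intro g _
  obtain ⟨a, b, rfl⟩ := allC_K g
  rw [commutator_def]
  exact Subgroup.commutator_mem_commutator (Subgroup.mem_top a) (Subgroup.mem_top b)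

theorem pce_K : Cfsg.Agent.H51.Mult.PCE φK where
  surj := φK_surj
  cen := by
    intro k hk
    rw [MonoidHom.mem_ker] at hk
    have h1 : φ (k : H0) = 1 := congrArg Subtype.val hk
    rw [Subgroup.mem_center_iff]
    intro g
    apply Subtype.ext
    rcases (Cfsg.Agent.HN.H0Basic.φ_eq_one_iff).1 h1 with h | h
    · change (g : H0) * (k : H0) = (k : H0) * g
      rw [h, mul_one, one_mul]
    · change (g : H0) * (k : H0) = (k : H0) * g
      rw [h]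
      exact Cfsg.Agent.HN.H0Basic.τ_comm _
  perf := perfect_K

end Cfsg.Agent.H767.QO.HS
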